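import Mathlib
import Groth.Prelude.Def_CAlgX
import Groth.Prelude.Def_W4bk4grassmannianPl

set_option autoImplicit false
universe u

open Matrix

namespace Groth.Agent.H5.DetCell

variable {R : Type u} [CommRing R]

/-- Laplace expansion: the ideal of `(r+1)`-minors is contained in the ideal of `r`-minors. -/
theorem minorIdeal_succ_le {m n : Type} [Fintype m] [Fintype n] (A : Matrix m n R) (r : ℕ) :
    CAlgX.minorIdeal A (r + 1) ≤ CAlgX.minorIdeal A r := by
  unfold CAlgX.minorIdeal
  rw [Ideal.span_le]
  rintro _ ⟨⟨f, g⟩, rfl⟩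
  show (A.submatrix f g).det ∈ _
  rw [Matrix.det_succ_row_zero]
  refine Ideal.sum_mem _ fun j _ => ?_
  apply Ideal.mul_mem_left
  apply Ideal.subset_span
  exact ⟨(f ∘ Fin.succ, g ∘ j.succAbove), rfl⟩

theorem minorIdeal_le_of_le {m n : Type} [Fintype m] [Fintype n] (A : Matrix m n R) {s t : ℕ}
    (h : t ≤ s) : CAlgX.minorIdeal A s ≤ CAlgX.minorIdeal A t := by
  induction s, h using Nat.le_induction with
  | base => exact le_rfl
  | succ s _ ih => exact (minorIdeal_succ_le A s).trans ih

/-- a minor indexed by a fintype of cardinality `b` lies in the ideal of `b`-minors. -/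
theorem det_submatrix_mem_minorIdeal {m n : Type} [Fintype m] [Fintype n] (A : Matrix m n R)
    {β : Type} [Fintype β] [DecidableEq β] (f : β → m) (g : β → n) :
    (A.submatrix f g).det ∈ CAlgX.minorIdeal A (Fintype.card β) := by
  have e := (Fintype.equivFin β).symm
  have h : (A.submatrix f g).det = (A.submatrix (f ∘ e) (g ∘ e)).det := by
    rw [← Matrix.det_submatrix_equiv_self e (A.submatrix f g)]
    rfl
  rw [h]
  apply Ideal.subset_span
  exact ⟨(f ∘ e, g ∘ e), rfl⟩

end Groth.Agent.H5.DetCell
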