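import Mathlib
import Groth.Agent.Lib.Helper5.DetCell.A

set_option autoImplicit false
universe u

open Matrix W4bk4grassmannian

namespace Groth.Agent.H5.DetCell

variable (K : Type u) [CommRing K] (d r : ℕ)

lemma cellMatrix_apply_lt (i : Fin (d + r)) (j : Fin d) (h : i.val < d) :
    cellMatrix K d r i j = if i.val = j.val then 1 else 0 := by
  simp [cellMatrix, h]

lemma cellMatrix_apply_ge (i : Fin (d + r)) (j : Fin d) (h : d ≤ i.val) :
    cellMatrix K d r i j = MvPolynomial.X (⟨i.val - d, by have := i.isLt; omega⟩, j) := by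
  have h' : ¬ i.val < d := by omega
  simp [cellMatrix, h']

/-- the block computation. -/
theorem cellMinor_eq {α β : Type} [Fintype α] [Fintype β] [DecidableEq α] [DecidableEq β]
    (θ : Fin d → Fin (d + r)) (ρ κ : α ⊕ β ≃ Fin d)
    (h1 : ∀ i : α, (θ (ρ (Sum.inl i))).val = (κ (Sum.inl i)).val)
    (h2 : ∀ k : β, d ≤ (θ (ρ (Sum.inr k))).val) :
    ((Equiv.Perm.sign (ρ.symm.trans κ) : ℤˣ) : CellRing K d r) * ((cellMatrix K d r).submatrix θ id).det =
      ((genMatrix K r d).submatrix
        (fun k : β => (⟨(θ (ρ (Sum.inr k))).val - d, by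
          have := (θ (ρ (Sum.inr k))).isLt; have := h2 k; omega⟩ : Fin r))
        (fun k : β => κ (Sum.inr k))).det := by
  set M := (cellMatrix K d r).submatrix θ id with hM
  set σ : Equiv.Perm (Fin d) := ρ.symm.trans κ with hσ
  have e1 : M.submatrix ρ κ = (M.submatrix id σ).submatrix ρ ρ := by
    ext x y
    simp [hσ]
  have e2 : (M.submatrix ρ κ).det = (Equiv.Perm.sign σ : ℤˣ) * M.det := by
    rw [e1, Matrix.det_submatrix_equiv_self, Matrix.det_permute']
  have e3 : M.submatrix ρ κ = Matrix.fromBlocks (1 : Matrix α α (CellRing K d r)) 0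
      (Matrix.of fun (k : β) (i : α) => M (ρ (Sum.inr k)) (κ (Sum.inl i)))
      ((genMatrix K r d).submatrix
        (fun k : β => (⟨(θ (ρ (Sum.inr k))).val - d, by
          have := (θ (ρ (Sum.inr k))).isLt; have := h2 k; omega⟩ : Fin r))
        (fun k : β => κ (Sum.inr k))) := by
    ext x y
    rcases x with i | k <;> rcases y with i' | k'
    · simp only [Matrix.submatrix_apply, Matrix.fromBlocks_apply₁₁, hM, id_eq]
      rw [cellMatrix_apply_lt K d r _ _ (by rw [h1]; exact (κ (Sum.inl i)).isLt), h1,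
        Matrix.one_apply]
      by_cases hii : i = i'
      · subst hii; simp
      · have : κ (Sum.inl i) ≠ κ (Sum.inl i') := fun h => hii (Sum.inl_injective (κ.injective h))
        have h' : (κ (Sum.inl i)).val ≠ (κ (Sum.inl i')).val := fun h => this (Fin.ext h)
        simp [hii, h']
    · simp only [Matrix.submatrix_apply, Matrix.fromBlocks_apply₁₂, hM, id_eq, Matrix.zero_apply]
      rw [cellMatrix_apply_lt K d r _ _ (by rw [h1]; exact (κ (Sum.inl i)).isLt), h1]
      have : κ (Sum.inl i) ≠ κ (Sum.inr k') := fun h => by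
        have := κ.injective h; exact Sum.inl_ne_inr this
      have h' : (κ (Sum.inl i)).val ≠ (κ (Sum.inr k')).val := fun h => this (Fin.ext h)
      simp [h']
    · simp only [Matrix.submatrix_apply, Matrix.fromBlocks_apply₂₁, Matrix.of_apply]
    · simp only [Matrix.submatrix_apply, Matrix.fromBlocks_apply₂₂, hM, id_eq]
      rw [cellMatrix_apply_ge K d r _ _ (h2 k)]
      rfl
  rw [← e2, e3, Matrix.det_fromBlocks_zero₁₂, Matrix.det_one, one_mul]

end Groth.Agent.H5.DetCell
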