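import Mathlib
import Groth.Agent.Lib.Helper5.DetCell.B

set_option autoImplicit false
universe u

open Matrix W4bk4grassmannian

namespace Groth.Agent.H5.DetCell

/-- extend an injective map to an equivalence from a sum. -/
theorem exists_equiv_extend {α β γ : Type} [Fintype α] [Fintype β] [Fintype γ]
    (κ₁ : α → γ) (h : Function.Injective κ₁)
    (hc : Fintype.card α + Fintype.card β = Fintype.card γ) :
    ∃ κ : α ⊕ β ≃ γ, ∀ i, κ (Sum.inl i) = κ₁ i := by
  classical
  have hcard : Fintype.card β = Fintype.card ↥(Set.range κ₁)ᶜ := by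
    rw [Fintype.card_compl_set, Set.card_range_of_injective h]
    omega
  let eV : β ≃ ↥(Set.range κ₁)ᶜ := Fintype.equivOfCardEq hcard
  refine ⟨(Equiv.sumCongr (Equiv.ofInjective κ₁ h) eV).trans (Equiv.Set.sumCompl (Set.range κ₁)),
    ?_⟩
  intro i
  simp

variable (K : Type u) [CommRing K] (d r t : ℕ)

theorem cellMinor_mem (θ : Idx d (d + r)) (hd : 0 < d) (ht : 0 < t) (htd : t ≤ d)
    (hθ : d ≤ (θ.1 ⟨d - t, Nat.sub_lt hd ht⟩).val) :
    cellMinor K d r θ ∈ CAlgX.minorIdeal (genMatrix K r d) t := by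
  classical
  let p : Fin d → Prop := fun s => (θ.1 s).val < d
  let ρ : {s // p s} ⊕ {s // ¬ p s} ≃ Fin d := Equiv.sumCompl p
  let κ₁ : {s // p s} → Fin d := fun s => ⟨(θ.1 s.1).val, s.2⟩
  have hκ₁ : Function.Injective κ₁ := by
    intro s s' h
    have h'' : (κ₁ s).val = (κ₁ s').val := by rw [h]
    have h' : (θ.1 s.1).val = (θ.1 s'.1).val := h''
    exact Subtype.ext (θ.2.injective (Fin.ext h'))
  have hc : Fintype.card {s // p s} + Fintype.card {s // ¬ p s} = Fintype.card (Fin d) := by
    rw [← Fintype.card_sum]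
    exact Fintype.card_congr ρ
  obtain ⟨κ, hκ⟩ := exists_equiv_extend κ₁ hκ₁ hc
  have h1 : ∀ i : {s // p s}, (θ.1 (ρ (Sum.inl i))).val = (κ (Sum.inl i)).val := by
    intro i
    rw [hκ]
    rfl
  have h2 : ∀ k : {s // ¬ p s}, d ≤ (θ.1 (ρ (Sum.inr k))).val := by
    intro k
    have := k.2
    exact not_lt.mp this
  have key := cellMinor_eq K d r θ.1 ρ κ h1 h2
  have hcardV : t ≤ Fintype.card {s // ¬ p s} := by
    have hinj : Function.Injective (fun k : Fin t =>
        (⟨⟨d - t + k.val, by have := k.isLt; omega⟩, by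
          show ¬ (θ.1 _).val < d
          rw [not_lt]
          refine hθ.trans ?_
          apply θ.2.monotone
          show d - t ≤ d - t + k.val
          omega⟩ : {s // ¬ p s})) := by
      intro k k' h
      have := congrArg (fun x : {s // ¬ p s} => x.1.val) h
      simp only at this
      exact Fin.ext (by omega)
    have := Fintype.card_le_of_injective _ hinj
    rwa [Fintype.card_fin] at this
  have hmem := minorIdeal_le_of_le (genMatrix K r d) hcardV
    (det_submatrix_mem_minorIdeal (genMatrix K r d)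
      (fun k : {s // ¬ p s} => (⟨(θ.1 (ρ (Sum.inr k))).val - d, by
          have := (θ.1 (ρ (Sum.inr k))).isLt; have := h2 k; omega⟩ : Fin r))
        (fun k : {s // ¬ p s} => κ (Sum.inr k)))
  rw [← key] at hmem
  have h3 : cellMinor K d r θ = ((Equiv.Perm.sign (ρ.symm.trans κ) : ℤˣ) : CellRing K d r) *
      (((Equiv.Perm.sign (ρ.symm.trans κ) : ℤˣ) : CellRing K d r) *
        ((cellMatrix K d r).submatrix θ.1 id).det) := by
    rw [← mul_assoc]
    have : ((Equiv.Perm.sign (ρ.symm.trans κ) : ℤˣ) : CellRing K d r) *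
        ((Equiv.Perm.sign (ρ.symm.trans κ) : ℤˣ) : CellRing K d r) = 1 := by
      rw [← Int.cast_mul, ← Units.val_mul, Int.units_mul_self]
      simp
    rw [this, one_mul]
    rfl
  rw [h3]
  exact Ideal.mul_mem_left _ _ hmem

end Groth.Agent.H5.DetCell
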