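import Mathlib
import Groth.Agent.Lib.Helper5.DetCell.C

set_option autoImplicit false
universe u

open Matrix W4bk4grassmannian

namespace Groth.Agent.H5.DetCell

variable (K : Type u) [CommRing K] (d r t : ℕ)

theorem cellMinor_eq' {α β : Type} [Fintype α] [Fintype β] [DecidableEq α] [DecidableEq β]
    (θ : Fin d → Fin (d + r)) (ρ κ : α ⊕ β ≃ Fin d)
    (h1 : ∀ i : α, (θ (ρ (Sum.inl i))).val = (κ (Sum.inl i)).val)
    (f : β → Fin r) (g : β → Fin d)
    (h2 : ∀ k : β, (θ (ρ (Sum.inr k))).val = d + (f k).val)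
    (hg : ∀ k : β, κ (Sum.inr k) = g k) :
    ((Equiv.Perm.sign (ρ.symm.trans κ) : ℤˣ) : CellRing K d r) *
        ((cellMatrix K d r).submatrix θ id).det =
      ((genMatrix K r d).submatrix f g).det := by
  rw [cellMinor_eq K d r θ ρ κ h1 (fun k => by rw [h2]; omega)]
  congr 1
  ext a b
  simp only [Matrix.submatrix_apply]
  have e1 : (⟨(θ (ρ (Sum.inr a))).val - d, by
      have := (θ (ρ (Sum.inr a))).isLt; have := h2 a; omega⟩ : Fin r) = f a := by
    apply Fin.ext
    show (θ (ρ (Sum.inr a))).val - d = (f a).val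
    rw [h2]; omega
  rw [e1, hg]

theorem minor_mem (hd : 0 < d) (ht : 0 < t) (htd : t ≤ d) (f : Fin t → Fin r) (g : Fin t → Fin d) :
    ((genMatrix K r d).submatrix f g).det ∈
      Ideal.span {x : CellRing K d r | ∃ θ : Idx d (d + r),
        d ≤ (θ.1 ⟨d - t, Nat.sub_lt hd ht⟩).val ∧ x = cellMinor K d r θ} := by
  classical
  by_cases hf : Function.Injective f
  swap
  · rw [Function.Injective] at hf
    push Not at hf
    obtain ⟨a, b, hab, hne⟩ := hf
    rw [Matrix.det_zero_of_row_eq hne (by ext j; simp [hab])]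
    exact zero_mem _
  by_cases hgi : Function.Injective g
  swap
  · rw [Function.Injective] at hgi
    push Not at hgi
    obtain ⟨a, b, hab, hne⟩ := hgi
    rw [Matrix.det_zero_of_column_eq hne (by intro k; simp [hab])]
    exact zero_mem _
  obtain ⟨κ', hκ'⟩ := exists_equiv_extend (α := Fin t) (β := Fin (d - t)) g hgi (by
    simp only [Fintype.card_fin]; omega)
  let κ : Fin (d - t) ⊕ Fin t ≃ Fin d := (Equiv.sumComm _ _).trans κ'
  have hκ : ∀ k, κ (Sum.inr k) = g k := fun k => hκ' k
  let θ' : Fin (d - t) ⊕ Fin t → Fin (d + r) :=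
    Sum.elim (fun i => Fin.castAdd r (κ (Sum.inl i))) (fun k => Fin.natAdd d (f k))
  have hθ' : Function.Injective θ' := by
    intro x y h
    rcases x with i | k <;> rcases y with i' | k'
    · have h' : (κ (Sum.inl i)).val = (κ (Sum.inl i')).val := by
        have := Fin.ext_iff.mp h
        simpa [θ'] using this
      have := κ.injective (Fin.ext h')
      rw [this]
    · exfalso
      have := Fin.ext_iff.mp h
      simp only [θ', Sum.elim_inl, Sum.elim_inr, Fin.val_castAdd, Fin.val_natAdd] at this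
      have := (κ (Sum.inl i)).isLt
      omega
    · exfalso
      have := Fin.ext_iff.mp h
      simp only [θ', Sum.elim_inl, Sum.elim_inr, Fin.val_castAdd, Fin.val_natAdd] at this
      have := (κ (Sum.inl i')).isLt
      omega
    · have h' : (f k).val = (f k').val := by
        have := Fin.ext_iff.mp h
        simp only [θ', Sum.elim_inr, Fin.val_natAdd] at this
        omega
      rw [hf (Fin.ext h')]
  let T : Finset (Fin (d + r)) := Finset.univ.image θ'
  have hT : T.card = d := by
    rw [Finset.card_image_of_injective _ hθ', Finset.card_univ, Fintype.card_sum, Fintype.card_fin,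
      Fintype.card_fin]
    omega
  let emb := T.orderEmbOfFin hT
  let θ : Idx d (d + r) := ⟨emb, emb.strictMono⟩
  have hex : ∀ x, ∃ s, emb s = θ' x := by
    intro x
    have hx : θ' x ∈ T := Finset.mem_image_of_mem _ (Finset.mem_univ _)
    have h := Finset.range_orderEmbOfFin T hT
    have : θ' x ∈ Set.range emb := by rw [h]; exact hx
    exact this
  choose ρ₀ hρ₀ using hex
  have hρinj : Function.Injective ρ₀ := fun x y h => hθ' (by rw [← hρ₀ x, ← hρ₀ y, h])
  have hρbij : Function.Bijective ρ₀ := (Fintype.bijective_iff_injective_and_card ρ₀).mpr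
    ⟨hρinj, by simp only [Fintype.card_sum, Fintype.card_fin]; omega⟩
  let ρ : Fin (d - t) ⊕ Fin t ≃ Fin d := Equiv.ofBijective ρ₀ hρbij
  have hρ : ∀ x, θ.1 (ρ x) = θ' x := hρ₀
  have h1 : ∀ i, (θ.1 (ρ (Sum.inl i))).val = (κ (Sum.inl i)).val := by
    intro i; rw [hρ]; rfl
  have h2 : ∀ k, (θ.1 (ρ (Sum.inr k))).val = d + (f k).val := by
    intro k; rw [hρ]; rfl
  have key := cellMinor_eq' K d r θ.1 ρ κ h1 f g h2 hκ
  have hcond : d ≤ (θ.1 ⟨d - t, Nat.sub_lt hd ht⟩).val := by
    by_contra hlt
    rw [not_le] at hlt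
    have hleft : ∀ j : Fin (d - t + 1), ∃ i : Fin (d - t),
        ρ (Sum.inl i) = ⟨j.val, by have := j.isLt; omega⟩ := by
      intro j
      obtain ⟨x, hx⟩ := ρ.surjective ⟨j.val, by have := j.isLt; omega⟩
      rcases x with i | k
      · exact ⟨i, hx⟩
      · exfalso
        have h2k := h2 k
        rw [hx] at h2k
        have hmono : θ.1 ⟨j.val, by have := j.isLt; omega⟩ ≤ θ.1 ⟨d - t, Nat.sub_lt hd ht⟩ :=
          θ.2.monotone (by
            show j.val ≤ d - t
            have := j.isLt; omega)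
        have h3 : (θ.1 ⟨j.val, by have := j.isLt; omega⟩).val ≤
            (θ.1 ⟨d - t, Nat.sub_lt hd ht⟩).val := hmono
        omega
    choose φ hφ using hleft
    have hφinj : Function.Injective φ := by
      intro j j' h
      have e1 := hφ j
      rw [h, hφ j'] at e1
      exact Fin.ext (Fin.ext_iff.mp e1).symm
    have := Fintype.card_le_of_injective φ hφinj
    simp only [Fintype.card_fin] at this
    omega
  rw [← key]
  exact Ideal.mul_mem_left _ _ (Ideal.subset_span ⟨θ, hcond, rfl⟩)

theorem main (hd : 0 < d) (ht : 0 < t) (htd : t ≤ d) (htr : t ≤ r) :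
    Ideal.span {f : CellRing K d r | ∃ θ : Idx d (d + r),
        d ≤ (θ.1 ⟨d - t, Nat.sub_lt hd ht⟩).val ∧ f = cellMinor K d r θ} =
      CAlgX.minorIdeal (genMatrix K r d) t := by
  apply le_antisymm
  · rw [Ideal.span_le]
    rintro _ ⟨θ, hθ, rfl⟩
    exact cellMinor_mem K d r t θ hd ht htd hθ
  · unfold CAlgX.minorIdeal
    rw [Ideal.span_le]
    rintro _ ⟨⟨f, g⟩, rfl⟩
    exact minor_mem K d r t hd ht htd f g

end Groth.Agent.H5.DetCell
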